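import Mathlib
import Cfsg.Agent.GStructB.TwoSizes

/-!
# Groups whose `p`-regular elements have two class sizes: the centralisers

`TwoReg G p m`: every non-central `p`-regular element has centraliser of index `m`.
When two different primes other than `p` have non-central elements, the `p`-regular part of such
a centraliser is an abelian subgroup, and two such centralisers with a non-central `p`-regular
element in common coincide.
-/

set_option autoImplicit false
set_option linter.style.haveILetI false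

namespace Cfsg.Agent.TwoRegClass

open Subgroup
open Cfsg.Agent.GStructB.TwoSizes (IsL isL_conj isL_of_mem coprime_of_isL cent mem_cent self_mem_cent
  cent_le_pow exists_primary commute_of_mod_center exists_step card_cent_conj)

variable {G : Type*} [Group G]

/-- `p`-regular. -/
def PReg (p : ℕ) (x : G) : Prop := (orderOf x).Coprime p

/-- Non-central `p`-regular elements all have centralisers of index `m`. -/
structure TwoReg (G : Type*) [Group G] (p m : ℕ) : Prop where
  prime : p.Prime
  index_eq : ∀ x : G, PReg p x → x ∉ center G → (cent x).index = m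
  exists_noncentral : ∃ x : G, PReg p x ∧ x ∉ center G

/-- Primes other than `p` with a non-central element of their power order. -/
def Moving (G : Type*) [Group G] (p t : ℕ) : Prop :=
  t.Prime ∧ t ≠ p ∧ ∃ y : G, IsL t y ∧ y ∉ center G

theorem preg_of_isL {p t : ℕ} (hp : p.Prime) (ht : t.Prime) (htp : t ≠ p) {x : G}
    (hx : IsL t x) : PReg p x := by
  obtain ⟨k, hk⟩ := hx
  rw [PReg, hk]
  exact ((Nat.coprime_primes ht hp).2 htp).pow_left k

theorem preg_pow {p : ℕ} {x : G} (hx : PReg p x) (n : ℕ) : PReg p (x ^ n) :=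
  Nat.Coprime.coprime_dvd_left (orderOf_pow_dvd n) hx

theorem preg_conj {p : ℕ} {x : G} (hx : PReg p x) (c : G) : PReg p (c * x * c⁻¹) := by
  have h : orderOf (c * x * c⁻¹) = orderOf x :=
    orderOf_injective (MulAut.conj c).toMonoidHom (MulAut.conj c).injective x
  rwa [PReg, h]

theorem preg_mul {p : ℕ} {x y : G} (hx : PReg p x) (hy : PReg p y) (h : Commute x y) :
    PReg p (x * y) :=
  Nat.Coprime.coprime_dvd_left (h.orderOf_mul_dvd_lcm.trans (Nat.lcm_dvd_mul _ _)) (Nat.Coprime.mul_left hx hy)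

theorem isL_one (t : ℕ) : IsL t (1 : G) := ⟨0, by simp⟩

theorem isL_of_pow {t k : ℕ} (ht : t.Prime) {x : G} (h : x ^ t ^ k = 1) : IsL t x := by
  obtain ⟨i, -, hi⟩ := (Nat.dvd_prime_pow ht).1 (orderOf_dvd_of_pow_eq_one h)
  exact ⟨i, hi⟩

theorem mem_center_of_coprime_pow {x : G} {n : ℕ} (hn : n.Coprime (orderOf x)) (h : x ^ n ∈ center G) :
    x ∈ center G :=
  GStructB.PElements.mem_of_pow_mem_coprime hn h (by rw [pow_orderOf_eq_one]; exact one_mem _)

variable [Finite G]

/-- An element lies in a subgroup containing all its powers of prime power order. -/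
theorem mem_of_primary {C : Subgroup G} {y : G}
    (h : ∀ (t : ℕ) (k : ℕ), t.Prime → t ∣ orderOf y → IsL t (y ^ k) → y ^ k ∈ C) : y ∈ C := by
  have hdvd : orderOf y ∣ Nat.card (C ⊓ zpowers y : Subgroup G) := by
    rw [Nat.dvd_iff_prime_pow_dvd_dvd]
    intro t i ht hti
    haveI := Fact.mk ht
    obtain ⟨a, s, hord, hts, hs⟩ := GStructB.PElements.exists_split t y
    rcases Nat.eq_zero_or_pos i with rfl | hi
    · simp
    have hia : t ^ i ∣ t ^ a :=
      (Nat.Coprime.pow_left i (ht.coprime_iff_not_dvd.2 hts)).dvd_of_dvd_mul_right (hord ▸ hti)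
    have htd : t ∣ orderOf y := (dvd_pow_self t hi.ne').trans hti
    refine hia.trans (hs ▸ Subgroup.orderOf_dvd_natCard _ ⟨h t s ht htd ⟨a, hs⟩, ?_⟩)
    exact pow_mem (mem_zpowers y) s
  have hle : (C ⊓ zpowers y : Subgroup G) = zpowers y :=
    Subgroup.eq_of_le_of_card_ge inf_le_right
      (by rw [Nat.card_zpowers]; exact Nat.le_of_dvd Nat.card_pos hdvd)
  exact (hle.symm ▸ mem_zpowers y : y ∈ (C ⊓ zpowers y : Subgroup G)).1

/-- If every element of `t`-power order of `G` lies in `H` then `t` does not divide the index. -/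
theorem not_dvd_index_of_forall {t : ℕ} [Fact t.Prime] {H : Subgroup G}
    (h : ∀ x : G, IsL t x → x ∈ H) : ¬ t ∣ H.index := by
  intro hd
  obtain ⟨P⟩ := (inferInstance : Nonempty (Sylow t G))
  exact P.not_dvd_index (hd.trans (index_dvd_of_le fun x hx => h x (isL_of_mem P.2 hx)))

namespace TwoReg

variable {p m : ℕ} (hG : TwoReg G p m)
include hG

theorem m_ne_one : m ≠ 1 := by
  obtain ⟨x, hx, hxc⟩ := hG.exists_noncentral
  intro h
  have h1 := hG.index_eq x hx hxc
  rw [h, Subgroup.index_eq_one] at h1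
  exact hxc (mem_center_iff.2 fun g => mem_cent.1 (h1 ▸ Subgroup.mem_top g))

theorem cent_eq_of_le {x y : G} (hx : PReg p x) (hxc : x ∉ center G) (hy : PReg p y)
    (hyc : y ∉ center G) (hle : cent x ≤ cent y) : cent x = cent y := by
  refine Subgroup.eq_of_le_of_card_ge hle (le_of_eq ?_)
  have h1 := (cent x).card_mul_index
  have h2 := (cent y).card_mul_index
  rw [hG.index_eq x hx hxc] at h1
  rw [hG.index_eq y hy hyc, ← h1] at h2
  refine Nat.eq_of_mul_eq_mul_right (Nat.pos_of_ne_zero fun h0 => ?_) h2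
  rw [h0, mul_zero] at h1
  exact Nat.card_pos.ne h1

/-- Step 1. -/
theorem cent_le_of_coprime {x y : G} (hx : PReg p x) (hxc : x ∉ center G) (hy : PReg p y)
    (hxy : Commute x y) (hco : (orderOf x).Coprime (orderOf y)) : cent x ≤ cent y := by
  have h1 : cent (x * y) ≤ cent x := GStructB.ClassGraph.centralizer_mul_le hxy hco
  have h2 : cent (x * y) ≤ cent y := by
    rw [hxy.eq]
    exact GStructB.ClassGraph.centralizer_mul_le hxy.symm hco.symm
  have hc : x * y ∉ center G := fun h => hxc (mem_center_iff.2 fun g =>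
    mem_cent.1 (h1 (mem_cent.2 (mem_center_iff.1 h g))))
  exact (hG.cent_eq_of_le (preg_mul hx hy hxy) hc hx hxc h1).ge.trans h2

/-- A non-central `p`-regular element has a primary component with the same centraliser. -/
theorem exists_component {x : G} (hx : PReg p x) (hxc : x ∉ center G) :
    ∃ t : ℕ, Moving G p t ∧ ∃ w : G, IsL t w ∧ w ∉ center G ∧ cent w = cent x := by
  obtain ⟨t, ht, k, hw, hwc⟩ := exists_primary hxc
  have htp : t ≠ p := by
    rintro rfl
    obtain ⟨i, hi⟩ := hw
    rcases Nat.eq_zero_or_pos i with rfl | hipos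
    · rw [pow_zero, orderOf_eq_one_iff] at hi
      exact hwc (hi ▸ one_mem _)
    · have h1 : Nat.Coprime (t ^ i) t := hi ▸ preg_pow hx k
      rw [Nat.coprime_pow_left_iff hipos, Nat.coprime_self] at h1
      exact ht.ne_one h1
  exact ⟨t, ⟨ht, htp, _, hw, hwc⟩, _, hw, hwc,
    (hG.cent_eq_of_le hx hxc (preg_pow hx k) hwc (cent_le_pow x k)).symm⟩

/-- Every centraliser holds a non-central element for every moving prime. -/
theorem exists_isL_mem {x : G} (hx : PReg p x) (hxc : x ∉ center G) {t : ℕ} (ht : Moving G p t) :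
    ∃ w : G, IsL t w ∧ w ∉ center G ∧ w ∈ cent x := by
  obtain ⟨htP, htp, y, hy, hyc⟩ := ht
  haveI := Fact.mk htP
  by_contra hcon
  push Not at hcon
  obtain ⟨T⟩ := (inferInstance : Nonempty (Sylow t (cent x)))
  set T' := (T : Subgroup (cent x)).map (cent x).subtype with hT'
  have hT'p : IsPGroup t T' := T.2.map _
  have hTc : ∀ w ∈ T', w ∈ center G := fun w hw => by
    by_contra hwc
    exact hcon w (isL_of_mem hT'p hw) hwc (map_subtype_le _ hw)
  obtain ⟨i, hi⟩ := hy
  have hsup : IsPGroup t (T' ⊔ zpowers y : Subgroup G) := by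
    refine hT'p.to_sup_of_normal_left' (GStructB.PElements.isPGroup_zpowers hi) ?_
    rw [zpowers_le, mem_normalizer_iff]
    intro w
    constructor
    · intro hw
      rwa [mem_center_iff.1 (hTc w hw) y, mul_inv_cancel_right]
    · intro hw
      have h1 := mem_center_iff.1 (hTc _ hw) y⁻¹
      have h2 : w = y * w * y⁻¹ := by
        calc w = y⁻¹ * (y * w * y⁻¹) * y := by group
          _ = y * w * y⁻¹ := by rw [h1, inv_mul_cancel_right]
      rwa [h2]
  have hle : (T' ⊔ zpowers y : Subgroup G) ≤ cent y :=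
    sup_le (fun w hw => mem_cent.2 (mem_center_iff.1 (hTc w hw) y).symm)
      (zpowers_le.2 (self_mem_cent y))
  have hcard : Nat.card (cent y) = Nat.card (cent x) := by
    have h1 := (cent x).card_mul_index
    have h2 := (cent y).card_mul_index
    rw [hG.index_eq x hx hxc] at h1
    rw [hG.index_eq y (preg_of_isL hG.prime htP htp ⟨i, hi⟩) hyc, ← h1] at h2
    refine Nat.eq_of_mul_eq_mul_right (Nat.pos_of_ne_zero fun h0 => ?_) h2
    rw [h0, mul_zero] at h1
    exact Nat.card_pos.ne h1
  have hT'card : Nat.card T' = t ^ (Nat.card (cent x)).factorization t := by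
    rw [hT', card_map_of_injective (cent x).subtype_injective, T.card_eq_multiplicity]
  have hle' : Nat.card (T' ⊔ zpowers y : Subgroup G) ≤ Nat.card T' := by
    rw [hT'card, ← hcard]
    exact GStructB.TwoSizes.card_le_lp hsup hle
  have heq : T' = T' ⊔ zpowers y := Subgroup.eq_of_le_of_card_ge le_sup_left hle'
  exact hyc (hTc y (heq ▸ (le_sup_right : zpowers y ≤ T' ⊔ zpowers y) (mem_zpowers y)))

/-- A prime other than `p` dividing `m` moves something. -/
theorem moving_of_dvd {t : ℕ} (ht : t.Prime) (htp : t ≠ p) (hd : t ∣ m) : Moving G p t := by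
  obtain ⟨x, hx, hxc⟩ := hG.exists_noncentral
  haveI := Fact.mk ht
  by_contra hcon
  refine not_dvd_index_of_forall (H := cent x) (fun y hy => ?_) (hG.index_eq x hx hxc ▸ hd)
  have hyc : y ∈ center G := by
    by_contra hyc
    exact hcon ⟨ht, htp, y, hy, hyc⟩
  exact mem_cent.2 ((mem_center_iff.1 hyc x).symm)

variable (htwo : ∀ t : ℕ, ∃ s, Moving G p s ∧ s ≠ t)
include htwo

/-- Every `p`-regular element of a centraliser has a larger centraliser. -/
theorem cent_le {x y : G} (hx : PReg p x) (hxc : x ∉ center G) (hy : PReg p y)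
    (hmem : y ∈ cent x) : cent x ≤ cent y := by
  obtain ⟨r, hr, w, hw, hwc, hweq⟩ := hG.exists_component hx hxc
  have hwp : PReg p w := preg_of_isL hG.prime hr.1 hr.2.1 hw
  rw [← hweq] at hmem ⊢
  intro g hg
  refine mem_cent.2 (mem_cent.1 (mem_of_primary (C := cent g) (y := y) fun t k ht _ hk => ?_)).symm
  by_cases hkc : y ^ k ∈ center G
  · exact mem_cent.2 (mem_center_iff.1 hkc g).symm
  have hkp : PReg p (y ^ k) := preg_pow hy k
  have hkw : Commute w (y ^ k) := ((mem_cent.1 hmem).pow_left k).symm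
  suffices hle : cent w ≤ cent (y ^ k) from mem_cent.2 (mem_cent.1 (hle hg)).symm
  by_cases htr : t = r
  · subst htr
    obtain ⟨s, hs, hst⟩ := htwo t
    obtain ⟨v, hv, hvc, hvw⟩ := hG.exists_isL_mem hwp hwc hs
    have hvp : PReg p v := preg_of_isL hG.prime hs.1 hs.2.1 hv
    have h1 := hG.cent_le_of_coprime hwp hwc hvp (mem_cent.1 hvw).symm
      (coprime_of_isL ht hs.1 hst.symm hw hv)
    have h2 := hG.cent_eq_of_le hwp hwc hvp hvc h1
    rw [h2]
    have h3 : Commute v (y ^ k) := (mem_cent.1 (h2 ▸ pow_mem hmem k : y ^ k ∈ cent v)).symm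
    exact hG.cent_le_of_coprime hvp hvc hkp h3 (coprime_of_isL hs.1 ht hst hv hk)
  · exact hG.cent_le_of_coprime hwp hwc hkp hkw (coprime_of_isL hr.1 ht (Ne.symm htr) hw hk)

theorem cent_eq {x y : G} (hx : PReg p x) (hxc : x ∉ center G) (hy : PReg p y)
    (hyc : y ∉ center G) (hmem : y ∈ cent x) : cent x = cent y :=
  hG.cent_eq_of_le hx hxc hy hyc (hG.cent_le htwo hx hxc hy hmem)

theorem commute_preg {x y y' : G} (hx : PReg p x) (hxc : x ∉ center G) (hy : PReg p y)
    (hymem : y ∈ cent x) (hmem' : y' ∈ cent x) : Commute y' y :=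
  mem_cent.1 (hG.cent_le htwo hx hxc hy hymem hmem')

/-- The subgroup of `p`-regular elements of a centraliser. -/
def regPart {x : G} (hx : PReg p x) (hxc : x ∉ center G) : Subgroup G where
  carrier := {y | y ∈ cent x ∧ PReg p y}
  one_mem' := ⟨one_mem _, by simp [PReg]⟩
  mul_mem' := fun {a b} ha hb => ⟨mul_mem ha.1 hb.1,
    preg_mul ha.2 hb.2 (hG.commute_preg htwo hx hxc hb.2 hb.1 ha.1)⟩
  inv_mem' := fun {a} ha => ⟨inv_mem ha.1, by rw [PReg, orderOf_inv]; exact ha.2⟩

theorem mem_regPart {x : G} (hx : PReg p x) (hxc : x ∉ center G) {y : G} :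
    y ∈ hG.regPart htwo hx hxc ↔ y ∈ cent x ∧ PReg p y := Iff.rfl

theorem regPart_comm {x : G} (hx : PReg p x) (hxc : x ∉ center G) :
    IsMulCommutative (hG.regPart htwo hx hxc) :=
  ⟨⟨fun a b => Subtype.ext (hG.commute_preg htwo hx hxc b.2.2 b.2.1 a.2.1).eq⟩⟩

theorem regPart_not_dvd_card {x : G} (hx : PReg p x) (hxc : x ∉ center G) :
    ¬ p ∣ Nat.card (hG.regPart htwo hx hxc) := by
  intro hd
  haveI := Fact.mk hG.prime
  obtain ⟨⟨y, hy⟩, hyo⟩ := exists_prime_orderOf_dvd_card' p hd
  rw [Subgroup.orderOf_mk] at hyo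
  have h := hy.2
  rw [PReg, hyo, Nat.coprime_self] at h
  exact hG.prime.ne_one h

/-- A prime other than `p` dividing the index of the regular part divides `m`. -/
theorem dvd_m_of_dvd_index {x : G} (hx : PReg p x) (hxc : x ∉ center G) {t : ℕ} (ht : t.Prime)
    (htp : t ≠ p) (hd : t ∣ (hG.regPart htwo hx hxc).index) : t ∣ m := by
  haveI := Fact.mk ht
  have hle : hG.regPart htwo hx hxc ≤ cent x := fun y hy => hy.1
  rw [← relIndex_mul_index hle, hG.index_eq x hx hxc] at hd
  refine (ht.dvd_mul.1 hd).resolve_left ?_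
  rw [relIndex]
  refine not_dvd_index_of_forall fun y hy => ?_
  refine mem_subgroupOf.2 ⟨y.2, preg_of_isL hG.prime ht htp ?_⟩
  obtain ⟨i, hi⟩ := hy
  exact ⟨i, by rw [Subgroup.orderOf_coe, hi]⟩

end TwoReg

end Cfsg.Agent.TwoRegClass
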