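import Mathlib

/-!
# Finite groups acting on a finite abelian group, semiregularly modulo a fixed subgroup

`Γ` acts by `φ` on the abelian group `V`, fixes `Z0` pointwise, and a nontrivial element of `Γ`
fixes nothing outside `Z0`.  If for every prime `a` some `a`-th power lies outside `Z0`, and for
every prime `t ≠ p` dividing `|Γ|` there is a `t`-element outside `Z0`, then at most one prime
other than `p` divides `|Γ|`.
-/

set_option linter.style.haveILetI false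

namespace Cfsg.Agent.TwoRegClass

open Finset

variable {Γ V : Type*} [Group Γ] [CommGroup V]

/-- The action is semiregular outside the fixed subgroup `Z0`. -/
structure SemiregMod (φ : Γ →* MulAut V) (Z0 : Subgroup V) : Prop where
  fix : ∀ σ : Γ, ∀ z ∈ Z0, φ σ z = z
  semi : ∀ σ : Γ, σ ≠ 1 → ∀ v : V, φ σ v = v → v ∈ Z0

variable {φ : Γ →* MulAut V} {Z0 : Subgroup V}

theorem eq_one_of_pow_coprime {M : Type*} [Monoid M] {x : M} {a b : ℕ} (hc : a.Coprime b)
    (ha : x ^ a = 1) (hb : x ^ b = 1) : x = 1 := by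
  have h := pow_gcd_eq_one.2 ⟨ha, hb⟩
  rwa [hc, pow_one] at h

namespace SemiregMod

variable (h : SemiregMod φ Z0)
include h

/-- Norms along nontrivial subgroups land in `Z0`. -/
theorem norm_mem (H : Subgroup Γ) [Fintype H] (hH : H ≠ ⊥) (v : V) :
    ∏ x : H, φ x v ∈ Z0 := by
  obtain ⟨⟨s, hs⟩, hs'⟩ := H.ne_bot_iff_exists_ne_one.1 hH
  have hs1 : s ≠ 1 := fun e => hs' (Subtype.ext e)
  refine h.semi s hs1 _ ?_
  rw [map_prod]
  exact Fintype.prod_equiv (Equiv.mulLeft (⟨s, hs⟩ : H)) _ _ fun x => by simp [map_mul]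

/-- Norms along nontrivial elements land in `Z0`. -/
theorem cyclic_norm_mem {σ : Γ} {b : ℕ} (hσ : σ ^ b = 1) (hσ1 : σ ≠ 1) (v : V) :
    ∏ i ∈ range b, φ (σ ^ i) v ∈ Z0 := by
  refine h.semi σ hσ1 _ ?_
  rw [map_prod]
  rcases Nat.eq_zero_or_pos b with rfl | hb
  · simp
  obtain ⟨c, rfl⟩ : ∃ c, b = c + 1 := ⟨b - 1, by omega⟩
  rw [prod_range_succ (fun i => φ σ (φ (σ ^ i) v)), prod_range_succ' (fun i => φ (σ ^ i) v)]
  congr 1
  · exact prod_congr rfl fun i _ => by rw [pow_succ' σ i, map_mul, MulAut.mul_apply]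
  · rw [← MulAut.mul_apply, ← map_mul, ← pow_succ', hσ, pow_zero]

/-- The partition lemma. -/
theorem pow_card_mem (H : Subgroup Γ) [Finite H] (hH : H ≠ ⊥) {f : Γ} (hfH : f ∉ H)
    (hnor : ∀ x ∈ H, f * x * f⁻¹ ∈ H) {b : ℕ} (hb : b.Prime)
    (hord : ∀ x ∈ H, (f * x) ^ b = 1) (v : V) : v ^ Nat.card H ∈ Z0 := by
  classical
  haveI := Fintype.ofFinite H
  obtain ⟨c, rfl⟩ : ∃ c, b = c + 1 := ⟨b - 1, by have := hb.one_lt; omega⟩
  have hne : ∀ x : H, f * x ≠ 1 := fun x e => hfH (by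
    rw [eq_inv_of_mul_eq_one_left e]; exact inv_mem x.2)
  have htot : ∏ x : H, ∏ i ∈ range (c + 1), φ ((f * x) ^ i) v ∈ Z0 :=
    Subgroup.prod_mem _ fun x _ => h.cyclic_norm_mem (hord x x.2) (hne x) v
  rw [prod_comm, prod_range_succ'] at htot
  have hz : ∀ x : H, φ ((f * (x : Γ)) ^ 0) v = v := fun x => by simp
  simp only [hz, prod_const, card_univ, ← Nat.card_eq_fintype_card] at htot
  refine (Subgroup.mul_mem_cancel_left _ ?_).1 htot
  refine Subgroup.prod_mem _ fun i hi => ?_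
  have hj : ¬ c + 1 ∣ i + 1 := fun hd => by
    have := Nat.le_of_dvd (Nat.succ_pos i) hd
    have := mem_range.1 hi
    omega
  have hmem : ∀ (n : ℕ) (x : H), (f * x) ^ n * (f ^ n)⁻¹ ∈ H := by
    intro n x
    induction n with
    | zero => simp
    | succ n ih =>
      have e : (f * (x : Γ)) ^ (n + 1) * (f ^ (n + 1))⁻¹
          = f * ((x : Γ) * ((f * x) ^ n * (f ^ n)⁻¹)) * f⁻¹ := by
        rw [pow_succ' (f * (x : Γ)), pow_succ' f]
        group
      rw [e]
      exact hnor _ (mul_mem x.2 ih)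
  let ψ : H → H := fun x => ⟨_, hmem (i + 1) x⟩
  have hψ : Function.Injective ψ := by
    intro x y hxy
    have e : (f * (x : Γ)) ^ (i + 1) = (f * (y : Γ)) ^ (i + 1) :=
      mul_right_cancel (congrArg Subtype.val hxy)
    have key : ∀ z : H, f * (z : Γ) =
        ((f * (z : Γ)) ^ (i + 1)) ^ (Nat.gcdA (i + 1) (c + 1)) := by
      intro z
      have hgcd : ((1 : ℕ) : ℤ) = ((i + 1 : ℕ) : ℤ) * Nat.gcdA (i + 1) (c + 1) +
          ((c + 1 : ℕ) : ℤ) * Nat.gcdB (i + 1) (c + 1) := by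
        rw [← Nat.gcd_eq_gcd_ab, (Nat.Coprime.symm (hb.coprime_iff_not_dvd.2 hj) : Nat.gcd _ _ = 1)]
      calc f * (z : Γ) = (f * (z : Γ)) ^ ((1 : ℕ) : ℤ) := by simp
        _ = _ := by
          rw [hgcd, zpow_add, zpow_mul, zpow_mul, zpow_natCast, zpow_natCast, hord z z.2,
            one_zpow, mul_one]
    refine Subtype.ext (mul_left_cancel (a := f) ?_)
    rw [key x, key y, e]
  have hw : ∏ x : H, φ x (φ (f ^ (i + 1)) v) ∈ Z0 := h.norm_mem H hH _
  rw [← (Finite.injective_iff_bijective.1 hψ).prod_comp] at hw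
  convert hw using 1
  refine prod_congr rfl fun x _ => ?_
  rw [← MulAut.mul_apply, ← map_mul]
  simp [ψ]

theorem apply_pow_of_moves {σ : Γ} {v c : V} (hc : c ∈ Z0) (hv : φ σ v = c * v) (n : ℕ) :
    φ (σ ^ n) v = c ^ n * v := by
  induction n with
  | zero => simp
  | succ n ih =>
    rw [pow_succ' σ, map_mul, MulAut.mul_apply, ih, map_mul, map_pow, h.fix σ c hc, hv,
      pow_succ, mul_assoc]

variable [Finite V]

/-- An automorphism of `t`-power order moves some `t`-element outside `Z0` inside its coset. -/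
theorem exists_moved {t : ℕ} (ht : t.Prime) {σ : Γ} (hσ1 : σ ≠ 1) {e : ℕ} (hσ : σ ^ t ^ e = 1)
    {v0 : V} (hv0 : v0 ∉ Z0) {k0 : ℕ} (hv0k : v0 ^ t ^ k0 = 1) :
    ∃ u c : V, u ∉ Z0 ∧ c ∈ Z0 ∧ (∃ k, u ^ t ^ k = 1) ∧ φ σ u = c * u := by
  classical
  haveI := Fact.mk ht
  haveI := Fintype.ofFinite (V ⧸ Z0)
  let g : Equiv.Perm (V ⧸ Z0) :=
    { toFun := QuotientGroup.map Z0 Z0 (φ σ).toMonoidHom fun z hz => by
        show φ σ z ∈ Z0
        rw [h.fix σ z hz]; exact hz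
      invFun := QuotientGroup.map Z0 Z0 (φ σ⁻¹).toMonoidHom fun z hz => by
        show φ σ⁻¹ z ∈ Z0
        rw [h.fix σ⁻¹ z hz]; exact hz
      left_inv := by
        intro x
        obtain ⟨x, rfl⟩ := QuotientGroup.mk_surjective x
        show ((φ σ⁻¹ (φ σ x) : V) : V ⧸ Z0) = x
        rw [← MulAut.mul_apply, ← map_mul, inv_mul_cancel, map_one, MulAut.one_apply]
      right_inv := by
        intro x
        obtain ⟨x, rfl⟩ := QuotientGroup.mk_surjective x
        show ((φ σ (φ σ⁻¹ x) : V) : V ⧸ Z0) = x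
        rw [← MulAut.mul_apply, ← map_mul, mul_inv_cancel, map_one, MulAut.one_apply] }
  have hg : ∀ (n : ℕ) (x : V), (g ^ n) (x : V ⧸ Z0) = (φ (σ ^ n) x : V) := by
    intro n
    induction n with
    | zero => simp
    | succ n ih =>
      intro x
      rw [pow_succ' g, Equiv.Perm.mul_apply, ih, pow_succ' σ, map_mul, MulAut.mul_apply]
      rfl
  have hgt : g ^ t ^ e = 1 := by
    ext x
    obtain ⟨x, rfl⟩ := QuotientGroup.mk_surjective x
    rw [hg, hσ, map_one]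
    simp
  have hq : t ∣ Fintype.card (V ⧸ Z0) := by
    have h1 : (v0 : V ⧸ Z0) ^ t ^ k0 = 1 := by rw [← QuotientGroup.mk_pow, hv0k]; rfl
    obtain ⟨i, -, hi⟩ := (Nat.dvd_prime_pow ht).1 (orderOf_dvd_of_pow_eq_one h1)
    refine dvd_trans ?_ (orderOf_dvd_card (x := (v0 : V ⧸ Z0)))
    rw [hi]
    refine dvd_pow_self t fun h0 => hv0 ?_
    rw [h0, pow_zero, orderOf_eq_one_iff, QuotientGroup.eq_one_iff] at hi
    exact hi
  obtain ⟨q, hq1, hq2⟩ := Equiv.Perm.exists_fixed_point_of_prime' hq hgt (a := 1)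
    (show g ((1 : V) : V ⧸ Z0) = ((1 : V) : V ⧸ Z0) by simpa using hg 1 1)
  obtain ⟨w, rfl⟩ := QuotientGroup.mk_surjective q
  have hw : w ∉ Z0 := fun hw => hq2 ((QuotientGroup.eq_one_iff w).2 hw)
  have hc : φ σ w * w⁻¹ ∈ Z0 := by
    have h1 : ((φ σ w : V) : V ⧸ Z0) = (w : V ⧸ Z0) := hq1
    rw [← QuotientGroup.eq_one_iff, QuotientGroup.mk_mul, QuotientGroup.mk_inv, h1,
      mul_inv_cancel]
  set c := φ σ w * w⁻¹ with hcdef
  have hwc : φ σ w = c * w := by simp [hcdef]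
  have hcp : c ^ t ^ e = 1 := by
    have h1 := h.apply_pow_of_moves hc hwc (t ^ e)
    rw [hσ, map_one, MulAut.one_apply] at h1
    exact right_eq_mul.1 h1
  obtain ⟨k, n, hn, hkn⟩ := Nat.exists_eq_pow_mul_and_not_dvd (orderOf_pos w).ne' t ht.ne_one
  have hun : φ σ (w ^ n) = c ^ n * w ^ n := by rw [map_pow, hwc, mul_pow]
  refine ⟨w ^ n, c ^ n, fun hwn => ?_, pow_mem hc n, ⟨k, ?_⟩, hun⟩
  · rw [h.fix σ _ hwn] at hun
    have h1 : c ^ n = 1 := right_eq_mul.1 hun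
    have h2 := eq_one_of_pow_coprime
      (Nat.Coprime.pow_right e (ht.coprime_iff_not_dvd.2 hn).symm) h1 hcp
    rw [h2, one_mul] at hwc
    exact hw (h.semi σ hσ1 w hwc)
  · rw [← pow_mul, mul_comm, ← hkn, pow_orderOf_eq_one]

/-- `Γ` has exponent `t` on its `t`-elements. -/
theorem pow_prime_eq_one {t : ℕ} (ht : t.Prime)
    (htor : t ∣ Nat.card Γ → ∃ v : V, v ∉ Z0 ∧ ∃ k, v ^ t ^ k = 1) :
    ∀ (e : ℕ) (σ : Γ), σ ^ t ^ e = 1 → σ ^ t = 1 := by
  have key : ∀ σ : Γ, σ ^ t ^ 2 = 1 → σ ^ t = 1 := by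
    intro σ hσ
    by_contra hne
    haveI := Fact.mk ht
    have hσ1 : σ ≠ 1 := fun e => hne (by rw [e, one_pow])
    have hdvd : t ∣ Nat.card Γ := by
      obtain ⟨i, -, hi⟩ := (Nat.dvd_prime_pow ht).1 (orderOf_dvd_of_pow_eq_one hσ)
      refine dvd_trans ?_ (orderOf_dvd_natCard σ)
      rw [hi]
      refine dvd_pow_self t fun h0 => hσ1 ?_
      rwa [h0, pow_zero, orderOf_eq_one_iff] at hi
    obtain ⟨v0, hv0, k0, hk0⟩ := htor hdvd
    obtain ⟨u, c, hu, hc, -, huc⟩ := h.exists_moved ht hσ1 hσ hv0 hk0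
    have hc2 : c ^ (t * t) = 1 := by
      have h1 := h.apply_pow_of_moves hc huc (t * t)
      rw [← sq, hσ, map_one, MulAut.one_apply] at h1
      rw [← sq]
      exact right_eq_mul.1 h1
    have hfix : φ (σ ^ t) (u ^ t) = u ^ t := by
      rw [map_pow (φ (σ ^ t)), h.apply_pow_of_moves hc huc t, mul_pow, ← pow_mul, hc2, one_mul]
    have h1 := h.fix σ _ (h.semi _ hne _ hfix)
    rw [map_pow, huc, mul_pow] at h1
    have hct : c ^ t = 1 := mul_eq_right.1 h1
    refine hu (h.semi _ hne u ?_)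
    rw [h.apply_pow_of_moves hc huc t, hct, one_mul]
  intro e
  induction e with
  | zero => intro σ hσ; rw [pow_zero, pow_one] at hσ; rw [hσ, one_pow]
  | succ e ih =>
    intro σ hσ
    refine key σ ?_
    have h1 := ih (σ ^ t) (by rw [← pow_mul, ← pow_succ']; exact hσ)
    rwa [← pow_mul, ← sq] at h1

/-- Elements of order prime to `t` centralizing an element of order `t` are trivial. -/
theorem eq_one_of_commute {t b : ℕ} (ht : t.Prime) (hb : b.Prime) (hbt : b ≠ t) {σ τ : Γ}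
    (hσ : σ ^ t = 1) (hσ1 : σ ≠ 1) (hcomm : Commute σ τ) (hτ : τ ^ b = 1)
    {v0 : V} (hv0 : v0 ∉ Z0) {k0 : ℕ} (hv0k : v0 ^ t ^ k0 = 1) : τ = 1 := by
  by_contra hτ1
  obtain ⟨u, c, hu, hc, ⟨k, hk⟩, huc⟩ :=
    h.exists_moved ht hσ1 (e := 1) (by rwa [pow_one]) hv0 hv0k
  have h1 : φ σ (φ τ u) = c * φ τ u := by
    rw [← MulAut.mul_apply, ← map_mul, hcomm.eq, map_mul, MulAut.mul_apply, huc, map_mul,
      h.fix τ c hc]
  set w := φ τ u * u⁻¹ with hw
  have hwfix : φ σ w = w := by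
    rw [hw, map_mul, map_inv, h1, huc]
    rw [mul_inv_rev, ← mul_assoc, mul_comm (c * φ τ u), mul_comm c, mul_assoc,
      mul_assoc, mul_inv_cancel, mul_one, mul_comm]
  have hw0 : w ∈ Z0 := h.semi σ hσ1 w hwfix
  have hτu : φ τ u = w * u := by simp [hw]
  have hwk : w ^ t ^ k = 1 := by
    have h2 := congrArg (· ^ t ^ k) hτu
    simpa [← map_pow, hk, mul_pow] using h2.symm
  have hwb : w ^ b = 1 := by
    have h2 := h.apply_pow_of_moves hw0 hτu b
    rw [hτ, map_one, MulAut.one_apply] at h2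
    exact right_eq_mul.1 h2
  have hw1 := eq_one_of_pow_coprime
    (Nat.Coprime.pow_right k ((Nat.coprime_primes hb ht).2 hbt)) hwb hwk
  rw [hw1, one_mul] at hτu
  exact hu (h.semi τ hτ1 u hτu)

variable [Finite Γ]

/-- A subgroup of `t`-power order has order dividing `t`. -/
theorem card_dvd_prime {t : ℕ} (ht : t.Prime)
    (htor : t ∣ Nat.card Γ → ∃ v : V, v ∉ Z0 ∧ ∃ k, v ^ t ^ k = 1)
    (hbig : ∀ a : ℕ, a.Prime → ∃ v : V, v ^ a ∉ Z0)
    {S : Subgroup Γ} (hS : IsPGroup t S) : Nat.card S ∣ t := by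
  haveI := Fact.mk ht
  rcases subsingleton_or_nontrivial S with hs | hs
  · rw [Nat.card_of_subsingleton (1 : S)]; exact one_dvd t
  have hexp : ∀ x : S, (x : Γ) ^ t = 1 := fun x => by
    obtain ⟨k, hk⟩ := hS x
    refine h.pow_prime_eq_one ht htor k _ ?_
    rw [← Subgroup.coe_pow, hk, Subgroup.coe_one]
  haveI := IsPGroup.center_nontrivial hS
  obtain ⟨⟨σ, hσc⟩, hσne⟩ := exists_ne (1 : Subgroup.center S)
  have hσ1 : (σ : Γ) ≠ 1 := fun e => hσne (Subtype.ext (Subtype.ext e))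
  have hle : S ≤ Subgroup.zpowers (σ : Γ) := by
    intro τ hτ
    by_contra hτH
    have hτσ : Commute τ (σ : Γ) := congrArg Subtype.val (Subgroup.mem_center_iff.1 hσc ⟨τ, hτ⟩)
    have hord : ∀ x ∈ Subgroup.zpowers (σ : Γ), (τ * x) ^ t = 1 := by
      rintro x ⟨i, rfl⟩
      exact hexp ⟨τ * (σ : Γ) ^ i, mul_mem hτ (zpow_mem σ.2 i)⟩
    have hnor : ∀ x ∈ Subgroup.zpowers (σ : Γ), τ * x * τ⁻¹ ∈ Subgroup.zpowers (σ : Γ) := by
      rintro x ⟨i, rfl⟩
      show τ * (σ : Γ) ^ i * τ⁻¹ ∈ _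
      rw [(hτσ.zpow_right i).eq, mul_assoc, mul_inv_cancel, mul_one]
      exact zpow_mem (Subgroup.mem_zpowers _) i
    have hcard : Nat.card (Subgroup.zpowers (σ : Γ)) = t := by
      rw [Nat.card_zpowers, orderOf_eq_prime (hexp σ) hσ1]
    obtain ⟨v, hv⟩ := hbig t ht
    refine hv ?_
    have := h.pow_card_mem (Subgroup.zpowers (σ : Γ)) (Subgroup.zpowers_ne_bot.2 hσ1) hτH hnor ht
      hord v
    rwa [hcard] at this
  refine (Subgroup.card_dvd_of_le hle).trans ?_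
  rw [Nat.card_zpowers, orderOf_eq_prime (hexp σ) hσ1]

/-- A subgroup of order `t` is self-normalizing. -/
theorem normalizer_le {t : ℕ} (ht : t.Prime)
    (htor : t ∣ Nat.card Γ → ∃ v : V, v ∉ Z0 ∧ ∃ k, v ^ t ^ k = 1)
    (hbig : ∀ a : ℕ, a.Prime → ∃ v : V, v ^ a ∉ Z0)
    {R : Subgroup Γ} (hR : Nat.card R = t) :
    Subgroup.normalizer (R : Set Γ) ≤ R := by
  haveI := Fact.mk ht
  set N := Subgroup.normalizer (R : Set Γ) with hN
  have hRN : R ≤ N := Subgroup.le_normalizer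
  by_cases hNt : IsPGroup t N
  · refine (Subgroup.eq_of_le_of_card_ge hRN ?_).ge
    rw [hR]
    exact Nat.le_of_dvd ht.pos (h.card_dvd_prime ht htor hbig hNt)
  exfalso
  obtain ⟨b, hb, hbd, hbt⟩ : ∃ b, b.Prime ∧ b ∣ Nat.card N ∧ b ≠ t := by
    by_contra hcon
    push Not at hcon
    exact hNt (IsPGroup.of_card (Nat.eq_prime_pow_of_unique_prime_dvd Nat.card_pos.ne'
      fun {d} hd hdN => hcon d hd hdN))
  haveI := Fact.mk hb
  obtain ⟨⟨τ, hτN⟩, hτo⟩ := exists_prime_orderOf_dvd_card' b hbd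
  rw [Subgroup.orderOf_mk] at hτo
  have hτb : τ ^ b = 1 := hτo ▸ pow_orderOf_eq_one τ
  have hτ1 : τ ≠ 1 := fun e => hb.ne_one (by rw [← hτo, e, orderOf_one])
  have hτR : τ ∉ R := by
    intro hτ
    have h1 := Subgroup.orderOf_dvd_natCard R hτ
    rw [hτo, hR] at h1
    exact hbt ((Nat.prime_dvd_prime_iff_eq hb ht).1 h1)
  have hR1 : R ≠ ⊥ := fun e => ht.ne_one (by rw [← hR, e, Subgroup.card_bot])
  have hnor : ∀ x ∈ R, τ * x * τ⁻¹ ∈ R := fun x hx => (Subgroup.mem_normalizer_iff.1 hτN x).1 hx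
  have hpow : ∀ x ∈ R, (τ * x) ^ b ∈ R := by
    intro x hx
    have h1 : ∀ n : ℕ, (τ * x) ^ n * (τ ^ n)⁻¹ ∈ R := by
      intro n
      induction n with
      | zero => simp
      | succ n ih =>
        have e : (τ * x) ^ (n + 1) * (τ ^ (n + 1))⁻¹
            = τ * (x * ((τ * x) ^ n * (τ ^ n)⁻¹)) * τ⁻¹ := by
          rw [pow_succ' (τ * x), pow_succ' τ]
          group
        rw [e]
        exact hnor _ (mul_mem hx ih)
    simpa [hτb] using h1 b
  have hord : ∀ x ∈ R, (τ * x) ^ b = 1 := by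
    intro x hx
    by_contra hne
    set y := (τ * x) ^ b with hy
    have hyR := hpow x hx
    rw [← hy] at hyR
    have hyo : orderOf y = t := ((Nat.dvd_prime ht).1
      (hR ▸ Subgroup.orderOf_dvd_natCard R hyR)).resolve_left (by rwa [orderOf_eq_one_iff])
    have hyR' : Subgroup.zpowers y = R := Subgroup.eq_of_le_of_card_ge (Subgroup.zpowers_le.2 hyR)
      (by rw [Nat.card_zpowers, hyo, hR])
    have hyt : y ^ t = 1 := hyo ▸ pow_orderOf_eq_one y
    have hxy : Commute y x := by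
      rw [← hyR'] at hx
      obtain ⟨i, hi⟩ := hx
      rw [← hi]
      exact (Commute.refl y).zpow_right i
    have hcomm : Commute y τ := by
      have h2 : Commute y (τ * x) := (Commute.refl (τ * x)).pow_left b
      simpa [mul_assoc] using h2.mul_right hxy.inv_right
    obtain ⟨v0, hv0, k0, hk0⟩ := htor (hR ▸ Subgroup.card_subgroup_dvd_card R)
    exact hτ1 (h.eq_one_of_commute ht hb hbt hyt hne hcomm hτb hv0 hk0)
  obtain ⟨v, hv⟩ := hbig t ht
  exact hv (hR ▸ h.pow_card_mem R hR1 hτR hnor hb hord v)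

/-- At most one prime other than `p` divides `|Γ|`. -/
theorem prime_unique {p : ℕ}
    (htor : ∀ t : ℕ, t.Prime → t ≠ p → t ∣ Nat.card Γ → ∃ v : V, v ∉ Z0 ∧ ∃ k, v ^ t ^ k = 1)
    (hbig : ∀ a : ℕ, a.Prime → ∃ v : V, v ^ a ∉ Z0)
    {t s : ℕ} (ht : t.Prime) (hs : s.Prime) (htp : t ≠ p) (hsp : s ≠ p)
    (htd : t ∣ Nat.card Γ) (hsd : s ∣ Nat.card Γ) : t = s := by
  by_contra hts
  haveI := Fact.mk ht
  haveI := Fact.mk hs
  obtain ⟨P⟩ := (inferInstance : Nonempty (Sylow t Γ))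
  have hPt : Nat.card P = t := ((Nat.dvd_prime ht).1
    (h.card_dvd_prime ht (htor t ht htp) hbig P.2)).resolve_left
    fun e => P.ne_bot_of_dvd_card htd (Subgroup.card_eq_one.1 e)
  haveI : IsCyclic P := isCyclic_of_prime_card hPt
  have hP : Subgroup.normalizer ((P : Subgroup Γ) : Set Γ)
      ≤ Subgroup.centralizer ((P : Subgroup Γ) : Set Γ) :=
    (h.normalizer_le ht (htor t ht htp) hbig hPt).trans (Subgroup.le_centralizer (P : Subgroup Γ))
  set K := (MonoidHom.transferSylow P hP).ker with hK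
  have hcomp := MonoidHom.ker_transferSylow_isComplement' P hP
  have hKt : ¬ t ∣ Nat.card K := MonoidHom.not_dvd_card_ker_transferSylow P hP
  have hKs : s ∣ Nat.card K := by
    have h1 := hcomp.card_mul_card
    rw [← h1, hPt] at hsd
    exact (hs.dvd_mul.1 hsd).resolve_right fun e => hts ((Nat.prime_dvd_prime_iff_eq hs ht).1 e).symm
  obtain ⟨Q⟩ := (inferInstance : Nonempty (Sylow s K))
  have hQ : IsPGroup s ((Q : Subgroup K).map K.subtype) := Q.2.map _
  have hQs : Nat.card ((Q : Subgroup K).map K.subtype) = s := by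
    refine ((Nat.dvd_prime hs).1 (h.card_dvd_prime hs (htor s hs hsp) hbig hQ)).resolve_left
      fun e => ?_
    rw [Subgroup.card_map_of_injective K.subtype_injective] at e
    exact Q.ne_bot_of_dvd_card hKs (Subgroup.card_eq_one.1 e)
  have hle := h.normalizer_le hs (htor s hs hsp) hbig hQs
  have htop := Sylow.normalizer_sup_eq_top Q
  have hKtop : K = ⊤ := top_unique (htop ▸ sup_le (hle.trans (Subgroup.map_subtype_le _)) le_rfl)
  exact hKt (by rw [hKtop, Subgroup.card_top]; exact htd)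

end SemiregMod

end Cfsg.Agent.TwoRegClass
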