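import Mathlib
import Cfsg.Agent.TwoRegClass.Action
import Cfsg.Agent.TwoRegClass.Base
import Cfsg.Agent.SolvStruct.Kazarin
import Cfsg.Agent.BlockCharsA.GlaubermanSolvable

/-!
# Two class sizes of `p`-regular elements and two moving primes: the index is a power of `p`
-/

set_option autoImplicit false
set_option linter.style.haveILetI false

namespace Cfsg.Agent.TwoRegClass

open Subgroup
open Cfsg.Agent.GStructB.TwoSizes (IsL isL_conj isL_of_mem coprime_of_isL cent mem_cent self_mem_cent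
  conj_mem_cent commute_of_mod_center exists_step)

variable {G : Type*} [Group G]

/-- Conjugation of a normalised subgroup as automorphisms. -/
def conjAut (N A : Subgroup G) (h : ∀ n ∈ N, ∀ a ∈ A, n * a * n⁻¹ ∈ A) : N →* MulAut A where
  toFun n :=
    { toFun := fun a => ⟨n * a * (n : G)⁻¹, h n n.2 a a.2⟩
      invFun := fun a => ⟨(n : G)⁻¹ * a * n, by simpa using h (n : G)⁻¹ (inv_mem n.2) a a.2⟩
      left_inv := fun a => Subtype.ext (by simp [mul_assoc])
      right_inv := fun a => Subtype.ext (by simp [mul_assoc])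
      map_mul' := fun a b => Subtype.ext (by simp [mul_assoc]) }
  map_one' := MulEquiv.ext fun a => Subtype.ext (by simp)
  map_mul' := fun a b => MulEquiv.ext fun c => Subtype.ext (by simp [mul_assoc])

theorem conjAut_apply (N A : Subgroup G) (h : ∀ n ∈ N, ∀ a ∈ A, n * a * n⁻¹ ∈ A) (n : N) (a : A) :
    (conjAut N A h n a : G) = n * a * (n : G)⁻¹ := rfl

variable [Finite G]

omit [Finite G] in
theorem isL_commutator {s : ℕ} (hs : s.Prime) {y t : G} (hy : IsL s y) (h : Commute (t * y * t⁻¹) y) :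
    IsL s (t * y * t⁻¹ * y⁻¹) := by
  obtain ⟨i, hi⟩ := hy
  refine isL_of_pow hs (k := i) ?_
  rw [h.inv_right.mul_pow, inv_pow, conj_pow, ← hi, pow_orderOf_eq_one, mul_one, mul_inv_cancel,
    inv_one, mul_one]

namespace TwoReg

variable {p m : ℕ} (hG : TwoReg G p m) (htwo : ∀ t : ℕ, ∃ s, Moving G p s ∧ s ≠ t)
include hG htwo

theorem mem_normalizer_of_conj {x y g : G} (hx : PReg p x) (hxc : x ∉ center G) (hy : PReg p y)
    (hyc : y ∉ center G) (hmem : y ∈ cent x) (hg : g * y * g⁻¹ ∈ cent x) :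
    g ∈ normalizer (cent x : Set G) := by
  have h1 := hG.cent_eq htwo hx hxc hy hyc hmem
  have hgc : g * y * g⁻¹ ∉ center G := fun h => hyc (by
    simpa [mul_assoc] using (inferInstance : (center G).Normal).conj_mem _ h g⁻¹)
  have h2 := hG.cent_eq htwo hx hxc (preg_conj hy g) hgc hg
  refine mem_normalizer_iff.2 fun w => ⟨fun hw => ?_, fun hw => ?_⟩
  · rw [h2]; exact conj_mem_cent (h1 ▸ hw)
  · rw [h1]
    have h3 := conj_mem_cent (c := g⁻¹) (h2 ▸ hw : g * w * g⁻¹ ∈ cent (g * y * g⁻¹))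
    simpa [mul_assoc] using h3

theorem regPart_normalised {x : G} (hx : PReg p x) (hxc : x ∉ center G) :
    ∀ g ∈ normalizer (cent x : Set G), ∀ a ∈ hG.regPart htwo hx hxc,
      g * a * g⁻¹ ∈ hG.regPart htwo hx hxc :=
  fun g hg a ha => ⟨(mem_normalizer_iff.1 hg a).1 ha.1, preg_conj ha.2 g⟩

/-- At most one prime other than `p` divides the index of a centraliser in its normalizer. -/
theorem relIndex_prime_unique {x : G} (hx : PReg p x) (hxc : x ∉ center G) {t s : ℕ} (ht : t.Prime)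
    (hs : s.Prime) (htp : t ≠ p) (hsp : s ≠ p)
    (htd : t ∣ (cent x).relIndex (normalizer (cent x : Set G)))
    (hsd : s ∣ (cent x).relIndex (normalizer (cent x : Set G))) : t = s := by
  set N := normalizer (cent x : Set G) with hN
  set A := hG.regPart htwo hx hxc with hA
  haveI := hG.regPart_comm htwo hx hxc
  letI : CommGroup A :=
    { (inferInstance : Group A) with mul_comm := fun a b => IsMulCommutative.is_comm.comm a b }
  set ρ := conjAut N A (hG.regPart_normalised htwo hx hxc) with hρ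
  have hone : ∀ n : N, (n : G) ∈ cent x → ρ n = 1 := by
    intro n hn
    refine MulEquiv.ext fun a => Subtype.ext ?_
    rw [hρ, conjAut_apply, MulAut.one_apply,
      (mem_cent.1 (hG.cent_le htwo hx hxc a.2.2 a.2.1 hn)).eq, mul_inv_cancel_right]
  have hker : ρ.ker = (cent x).subgroupOf N := by
    ext n
    refine ⟨fun hn => ?_, hone n⟩
    have hxA : x ∈ A := ⟨self_mem_cent x, hx⟩
    have h1 := congrArg Subtype.val (DFunLike.congr_fun (MonoidHom.mem_ker.1 hn) ⟨x, hxA⟩)
    rw [hρ, conjAut_apply, MulAut.one_apply] at h1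
    exact mem_subgroupOf.2 (mem_cent.2 (mul_inv_eq_iff_eq_mul.1 h1))
  have hcard : Nat.card ρ.range = (cent x).relIndex N := by
    rw [← Subgroup.index_ker, hker]; rfl
  have hsemi : SemiregMod ρ.range.subtype ((center G).subgroupOf A) := by
    refine ⟨?_, ?_⟩
    · rintro ⟨_, n, rfl⟩ z hz
      refine Subtype.ext ?_
      show (n : G) * z * (n : G)⁻¹ = z
      have hcz : (n : G) * (z : G) = (z : G) * n := mem_center_iff.1 (mem_subgroupOf.1 hz) (n : G)
      rw [hcz, mul_inv_cancel_right]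
    · rintro ⟨_, n, rfl⟩ hne v hv
      by_contra hvc
      have hv' : (n : G) * v * (n : G)⁻¹ = v := congrArg Subtype.val hv
      have hn : (n : G) ∈ cent x := by
        rw [hG.cent_eq htwo hx hxc v.2.2 hvc v.2.1]
        exact mem_cent.2 (mul_inv_eq_iff_eq_mul.1 hv')
      exact hne (Subtype.ext (hone n hn))
  have htor : ∀ q : ℕ, q.Prime → q ≠ p → q ∣ Nat.card ρ.range →
      ∃ v : A, v ∉ (center G).subgroupOf A ∧ ∃ k, v ^ q ^ k = 1 := by
    intro q hq hqp hqd
    rw [hcard] at hqd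
    have hqm : q ∣ m := by
      rw [← hG.index_eq x hx hxc, ← relIndex_mul_index (le_normalizer : cent x ≤ N)]
      exact hqd.mul_right _
    obtain ⟨w, ⟨k, hk⟩, hwc, hwx⟩ := hG.exists_isL_mem hx hxc (hG.moving_of_dvd hq hqp hqm)
    exact ⟨⟨w, hwx, preg_of_isL hG.prime hq hqp ⟨k, hk⟩⟩, fun h => hwc h, k,
      Subtype.ext (by rw [SubmonoidClass.coe_pow, ← hk, pow_orderOf_eq_one]; rfl)⟩
  have hbig : ∀ a : ℕ, a.Prime → ∃ v : A, v ^ a ∉ (center G).subgroupOf A := by
    intro a ha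
    obtain ⟨q, hq, hqa⟩ := htwo a
    obtain ⟨w, ⟨k, hk⟩, hwc, hwx⟩ := hG.exists_isL_mem hx hxc hq
    refine ⟨⟨w, hwx, preg_of_isL hG.prime hq.1 hq.2.1 ⟨k, hk⟩⟩, fun h => hwc ?_⟩
    refine mem_center_of_coprime_pow (n := a) ?_ h
    rw [hk]
    exact ((Nat.coprime_primes ha hq.1).2 hqa.symm).pow_right k
  exact hsemi.prime_unique htor hbig ht hs htp hsp (hcard ▸ htd) (hcard ▸ hsd)

/-- A prime other than `p` dividing `m` divides the index of a centraliser in its normalizer. -/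
theorem dvd_relIndex {x : G} (hx : PReg p x) (hxc : x ∉ center G) {t : ℕ} (ht : t.Prime)
    (htp : t ≠ p) (htd : t ∣ m) : t ∣ (cent x).relIndex (normalizer (cent x : Set G)) := by
  haveI := Fact.mk ht
  obtain ⟨w, hw, hwc, hwx⟩ := hG.exists_isL_mem hx hxc (hG.moving_of_dvd ht htp htd)
  have hwp : PReg p w := preg_of_isL hG.prime ht htp hw
  obtain ⟨i, hi⟩ := hw
  obtain ⟨T, hwT⟩ := GStructB.PElements.exists_mem_sylow (G := G) hi
  set T1 := (cent x).subgroupOf (T : Subgroup G) with hT1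
  have hlt : T1 < ⊤ := by
    refine lt_top_iff_ne_top.2 fun h => ?_
    rw [hT1, subgroupOf_eq_top] at h
    exact T.not_dvd_index ((hG.index_eq x hx hxc ▸ htd).trans (index_dvd_of_le h))
  haveI : Group.IsNilpotent (T : Subgroup G) := T.2.isNilpotent
  obtain ⟨g, hgN, hg1⟩ := SetLike.exists_of_lt (Group.normalizerCondition_of_isNilpotent T1 hlt)
  have hconj : (g : G) * w * (g : G)⁻¹ ∈ cent x :=
    (mem_normalizer_iff.1 hgN ⟨w, hwT⟩).1 hwx
  set N := normalizer (cent x : Set G) with hN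
  have hgN' : (g : G) ∈ N := hG.mem_normalizer_of_conj htwo hx hxc hwp hwc hwx hconj
  haveI : ((cent x).subgroupOf N).Normal :=
    (normal_subgroupOf_iff_le_normalizer le_normalizer).2 le_rfl
  by_contra hnd
  refine hg1 (mem_subgroupOf.2 ?_)
  obtain ⟨j, hj⟩ := isL_of_mem T.2 g.2
  have h1 : orderOf (QuotientGroup.mk' ((cent x).subgroupOf N) ⟨g, hgN'⟩) = 1 := by
    refine Nat.eq_one_of_dvd_coprimes ((Nat.Coprime.pow_left j ((ht.coprime_iff_not_dvd).2 hnd)))
      ((orderOf_map_dvd _ _).trans (by rw [Subgroup.orderOf_mk, hj])) ?_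
    exact orderOf_dvd_natCard _
  exact mem_subgroupOf.1 ((QuotientGroup.eq_one_iff (⟨g, hgN'⟩ : N)).1 (orderOf_eq_one_iff.1 h1))

/-- With two moving primes, `m` is a power of `p`. -/
theorem prime_dvd_m_eq {r : ℕ} (hr : r.Prime) (hrd : r ∣ m) : r = p := by
  classical
  by_contra hrp
  have hp := hG.prime
  haveI := Fact.mk hr
  haveI := Fact.mk hp
  -- `z` is central modulo the centre in a Sylow `r`-subgroup `T`
  obtain ⟨-, -, y0, ⟨i0, hi0⟩, hy0c⟩ := hG.moving_of_dvd hr hrp hrd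
  obtain ⟨T, hy0T⟩ := GStructB.PElements.exists_mem_sylow (G := G) hi0
  obtain ⟨z, hzT, hzc, hzcomm⟩ := exists_step (D := center G) T.2 le_rfl le_normalizer
    (by rw [normalizer_eq_top]; exact le_top) (fun h => hy0c (h hy0T))
  have hz : PReg p z := preg_of_isL hp hr hrp (isL_of_mem T.2 hzT)
  set N := normalizer (cent z : Set G) with hN
  have hconjz : ∀ h ∈ (T : Subgroup G), h * z * h⁻¹ ∈ cent z := by
    intro h hh
    have h1 := hzcomm h hh
    have : h * z * h⁻¹ = h * z * h⁻¹ * z⁻¹ * z := by group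
    rw [this]
    exact mem_cent.2 (Commute.mul_left (mem_center_iff.1 h1 z).symm (Commute.refl z))
  have hTN : (T : Subgroup G) ≤ N := fun h hh =>
    hG.mem_normalizer_of_conj htwo hz hzc hz hzc (self_mem_cent z) (hconjz h hh)
  -- only one prime other than `p` divides `m`
  have honly : ∀ s : ℕ, s.Prime → s ∣ m → s ≠ p → s = r := fun s hs hsd hsp =>
    hG.relIndex_prime_unique htwo hz hzc hs hr hsp hrp (hG.dvd_relIndex htwo hz hzc hs hsp hsd)
      (hG.dvd_relIndex htwo hz hzc hr hrp hrd)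
  -- the largest normal subgroup which is a `p`-group modulo the centre
  obtain ⟨L, hcL, hmax⟩ := (Set.toFinite {M : Subgroup G | M.Normal ∧ center G ≤ M ∧
    ∀ x ∈ M, ∃ k, x ^ p ^ k ∈ center G}).exists_le_maximal (a := center G)
    ⟨inferInstance, le_rfl, fun x hx => ⟨0, by simpa using hx⟩⟩
  obtain ⟨hLn, -, hLp⟩ := hmax.prop
  haveI := hLn
  have hLpreg : ∀ x ∈ L, PReg p x → x ∈ center G := by
    intro x hx hxp
    obtain ⟨k, hk⟩ := hLp x hx
    exact mem_center_of_coprime_pow (Nat.Coprime.pow_left k (Nat.Coprime.symm hxp)) hk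
  set π := QuotientGroup.mk' L with hπ
  have hπ1 : ∀ x, π x = 1 ↔ x ∈ L := fun x => QuotientGroup.eq_one_iff x
  -- the class of the image of `z` has `p`-power size
  set zb := π z with hzb
  have hzb1 : zb ≠ 1 := fun h => hzc (hLpreg z ((hπ1 z).1 h) hz)
  have hidx : ∃ a, (centralizer ({zb} : Set (G ⧸ L))).index = p ^ a := by
    set i := (centralizer ({zb} : Set (G ⧸ L))).index with hi
    set D := cent z ⊔ (T : Subgroup G) with hD
    have hD1 : i ∣ D.index := by
      refine dvd_trans (index_dvd_of_le ?_) (index_map_dvd (H := D) (QuotientGroup.mk'_surjective L))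
      rw [hD, Subgroup.map_sup]
      refine sup_le ?_ ?_
      · rintro _ ⟨c, hc, rfl⟩
        exact mem_centralizer_singleton_iff.2 ((mem_cent.1 hc).map π).eq
      · rintro _ ⟨c, hc, rfl⟩
        refine mem_centralizer_singleton_iff.2 ?_
        have h1 : π (c * z * c⁻¹ * z⁻¹) = 1 := (hπ1 _).2 (hcL (hzcomm c hc))
        simp only [map_mul, map_inv] at h1
        rw [hzb]
        exact mul_inv_eq_iff_eq_mul.1 (mul_inv_eq_one.1 h1)
    have him : i ∣ m := hD1.trans (hG.index_eq z hz hzc ▸ index_dvd_of_le le_sup_left)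
    have hir : ¬ r ∣ i := fun h =>
      T.not_dvd_index ((h.trans hD1).trans (index_dvd_of_le le_sup_right))
    exact ⟨_, Nat.eq_prime_pow_of_unique_prime_dvd index_ne_zero_of_finite fun {d} hd hdi => by
      by_contra hdp
      exact hir (honly d hd (hdi.trans him) hdp ▸ hdi)⟩
  obtain ⟨a, ha⟩ := hidx
  set M := normalClosure ({zb} : Set (G ⧸ L)) with hM
  have hMsol : Group.IsSolvable M := SolvStruct.Kazarin.isSolvable_normalClosure hp ha
  have hMcard : Nat.card M ≠ 1 := fun h => hzb1 (by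
    have h1 : zb ∈ M := subset_normalClosure rfl
    rwa [Subgroup.card_eq_one.1 h, Subgroup.mem_bot] at h1)
  obtain ⟨q, E, hq, hEn, hEp, hE1⟩ :=
    BlockCharsA.GlaubermanSolvable.exists_normal_pgroup hMsol hMcard
  haveI := Fact.mk hq
  haveI : M.Normal := normalClosure_normal
  set Kb := (Cfsg.pCore q M).map M.subtype with hKb
  haveI hKbn : Kb.Normal := Cores.normal_map_subtype _ _
  have hKbp : IsPGroup q Kb := (Cores.pCore_isPGroup q).map _
  have hKb1 : Kb ≠ ⊥ := by
    rw [hKb, Ne, map_eq_bot_iff_of_injective _ M.subtype_injective]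
    haveI := hEn
    exact fun h => hE1 (le_bot_iff.1 (h ▸ Cores.le_pCore hEp))
  set K := Kb.comap π with hK
  haveI hKn : K.Normal := hKbn.comap π
  have hLK : L ≤ K := fun x hx => mem_comap.2 ((hπ1 x).2 hx ▸ one_mem _)
  have hKtor : ∀ x ∈ K, ∃ k, x ^ q ^ k ∈ L := by
    intro x hx
    obtain ⟨k, hk⟩ := hKbp ⟨π x, hx⟩
    refine ⟨k, (hπ1 _).1 ?_⟩
    rw [map_pow]
    exact congrArg Subtype.val hk
  have hKL : ¬ K ≤ L := by
    intro h
    refine hKb1 ((eq_bot_iff_forall _).2 fun x hx => ?_)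
    obtain ⟨x, rfl⟩ := QuotientGroup.mk'_surjective L x
    exact (hπ1 x).2 (h hx)
  have hqp : q ≠ p := by
    rintro rfl
    refine hKL (hmax.le_of_ge ⟨hKn, hcL.trans hLK, fun x hx => ?_⟩ hLK)
    obtain ⟨k, hk⟩ := hKtor x hx
    obtain ⟨j, hj⟩ := hLp _ hk
    exact ⟨k + j, by rwa [pow_add, pow_mul]⟩
  -- a Sylow `q`-subgroup inside `N`
  obtain ⟨Tq, hTqN⟩ : ∃ Tq : Sylow q G, (Tq : Subgroup G) ≤ N := by
    by_cases hqr : q = r
    · subst hqr
      exact ⟨T, hTN⟩
    · obtain ⟨Q⟩ := (inferInstance : Nonempty (Sylow q (cent z)))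
      have h1 : IsPGroup q ((Q : Subgroup (cent z)).map (cent z).subtype) := Q.2.map _
      have h2 : ¬ q ∣ ((Q : Subgroup (cent z)).map (cent z).subtype).index := by
        rw [index_map_subtype, hG.index_eq z hz hzc]
        intro h
        exact (hq.dvd_mul.1 h).elim Q.not_dvd_index fun h => hqr (honly q hq h hqp)
      exact ⟨h1.toSylow h2, (map_subtype_le _).trans le_normalizer⟩
  set T0 := (Tq : Subgroup G) ⊓ K with hT0
  have hT0q : ∀ x ∈ T0, IsL q x := fun x hx => isL_of_mem Tq.2 hx.1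
  -- `K = T0 ⊔ L`
  have hKT0 : K ≤ T0 ⊔ L := by
    set P := Tq.mapSurjective (QuotientGroup.mk'_surjective L) with hP
    have hle : Kb ≤ (P : Subgroup (G ⧸ L)) := by
      have h1 : IsPGroup q ((P : Subgroup (G ⧸ L)) ⊔ Kb : Subgroup (G ⧸ L)) :=
        P.2.to_sup_of_normal_right hKbp
      exact le_sup_right.trans (P.is_maximal' h1 le_sup_left).le
    intro x hx
    obtain ⟨τ, hτ, hτx⟩ : π x ∈ (Tq : Subgroup G).map π := by
      have h0 := hle (mem_comap.1 hx)
      rwa [hP, Sylow.coe_mapSurjective] at h0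
    have h1 : τ⁻¹ * x ∈ L := (hπ1 _).1 (by rw [map_mul, map_inv, hτx, inv_mul_cancel])
    have h2 : τ ∈ K := by
      rw [hK, mem_comap, hτx]; exact hx
    have h3 : x = τ * (τ⁻¹ * x) := by group
    rw [h3]
    exact mul_mem (mem_sup_left ⟨hτ, h2⟩) (mem_sup_right h1)
  -- `T0` centralizes a regular element, so lies in the centraliser of `z`
  have hT0C : T0 ≤ cent z := by
    intro τ hτ
    obtain ⟨s, hs, hsq⟩ := htwo q
    obtain ⟨y, hy, hyc, hyz⟩ := hG.exists_isL_mem hz hzc hs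
    have hyp : PReg p y := preg_of_isL hp hs.1 hs.2.1 hy
    have hmem : τ * y * τ⁻¹ ∈ cent z := (mem_normalizer_iff.1 (hTqN hτ.1) y).1 hyz
    have hcomm : Commute (τ * y * τ⁻¹) y :=
      hG.commute_preg htwo hz hzc hyp hyz hmem
    have hc : IsL s (τ * y * τ⁻¹ * y⁻¹) := isL_commutator hs.1 hy hcomm
    have hcK : τ * y * τ⁻¹ * y⁻¹ ∈ K := by
      rw [show τ * y * τ⁻¹ * y⁻¹ = τ * (y * τ⁻¹ * y⁻¹) by group]
      exact mul_mem hτ.2 (hKn.conj_mem _ (inv_mem hτ.2) y)
    obtain ⟨k, hk⟩ := hKtor _ hcK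
    have hcc : τ * y * τ⁻¹ * y⁻¹ ∈ center G := by
      refine mem_center_of_coprime_pow (n := q ^ k) ?_
        (hLpreg _ hk (preg_pow (preg_of_isL hp hs.1 hs.2.1 hc) _))
      obtain ⟨j, hj⟩ := hc
      rw [hj]
      exact Nat.Coprime.pow k j ((Nat.coprime_primes hq hs.1).2 hsq.symm)
    have hτy := commute_of_mod_center hs.1 hq hsq.symm (hT0q τ hτ) hy hcc
    rw [hG.cent_eq htwo hz hzc hyp hyc hyz]
    exact mem_cent.2 hτy
  obtain ⟨a0, ha0, ha0L⟩ : ∃ a0 ∈ T0, a0 ∉ L := SetLike.not_le_iff_exists.1 fun h =>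
    hKL (hKT0.trans (sup_le h le_rfl))
  have hnorm : normalizer (T0 : Set G) ≤ N := by
    intro n hn
    exact hG.mem_normalizer_of_conj htwo hz hzc (preg_of_isL hp hq hqp (hT0q a0 ha0))
      (fun h => ha0L (hcL h)) (hT0C ha0) (hT0C ((mem_normalizer_iff.1 hn a0).1 ha0))
  have hGNL : N ⊔ L = ⊤ := by
    have h1 : IsPGroup q (T0.subgroupOf K) := by
      refine (Tq.2.to_le inf_le_left : IsPGroup q T0).comap_of_injective _ K.subtype_injective
    have h2 : ¬ q ∣ (T0.subgroupOf K).index := by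
      rw [hT0, inf_subgroupOf_right]
      exact fun h => Tq.not_dvd_index (h.trans (GStructB.ClassGraph.relIndex_dvd_index K _))
    have h3 := Sylow.normalizer_sup_eq_top (h1.toSylow h2)
    rw [IsPGroup.toSylow_coe, subgroupOf_map_subtype, inf_of_le_left (inf_le_right : T0 ≤ K)] at h3
    rw [eq_top_iff, ← h3]
    refine sup_le (hnorm.trans le_sup_left) (hKT0.trans (sup_le ?_ le_sup_right))
    exact le_sup_of_le_left (inf_le_left.trans hTqN)
  -- `W = L ⊔ A` is normal
  set A := hG.regPart htwo hz hzc with hA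
  set W := L ⊔ A with hW
  haveI hWn : W.Normal := by
    refine normalizer_eq_top_iff.1 (top_unique (hGNL ▸ sup_le (fun n hn => ?_) ?_))
    · have key : ∀ n ∈ N, ∀ w ∈ W, n * w * n⁻¹ ∈ W := by
        intro n hn w hw
        obtain ⟨l, hl, b, hb, rfl⟩ := mem_sup_of_normal_left.1 hw
        rw [show n * (l * b) * n⁻¹ = (n * l * n⁻¹) * (n * b * n⁻¹) by group]
        exact mul_mem (mem_sup_left (hLn.conj_mem l hl n))
          (mem_sup_right (hG.regPart_normalised htwo hz hzc n hn b hb))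
      refine mem_normalizer_iff.2 fun w => ⟨key n hn w, fun hw => ?_⟩
      simpa [mul_assoc] using key n⁻¹ (inv_mem hn) _ hw
    · exact le_sup_left.trans le_normalizer
  -- final contradiction
  obtain ⟨g, hgT, hgz⟩ : ∃ g ∈ (T : Subgroup G), g ∉ cent z := SetLike.not_le_iff_exists.1 fun h =>
    T.not_dvd_index ((hG.index_eq z hz hzc ▸ hrd).trans (index_dvd_of_le h))
  have hgL : IsL r g := isL_of_mem T.2 hgT
  obtain ⟨s, hs, hsr⟩ := htwo r
  haveI := Fact.mk hs.1
  have hgc : g ∉ center G := fun h => hgz (center_le_centralizer _ h)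
  obtain ⟨y, hy, hyc, hyg⟩ :=
    hG.exists_isL_mem (preg_of_isL hp hr hrp hgL) hgc hs
  have hyW : y ∈ W := by
    obtain ⟨j, hj⟩ := hy
    have hnd : ¬ s ∣ W.index := fun h => hsr (honly s hs.1 (hG.dvd_m_of_dvd_index htwo hz hzc hs.1
      hs.2.1 (h.trans (index_dvd_of_le le_sup_right))) hs.2.1)
    refine (QuotientGroup.eq_one_iff _).1 (orderOf_eq_one_iff.1
      (Nat.eq_one_of_dvd_coprimes (Nat.Coprime.pow_left j (hs.1.coprime_iff_not_dvd.2 hnd))
        ((orderOf_map_dvd (QuotientGroup.mk' W) y).trans (by rw [hj])) (orderOf_dvd_natCard _)))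
  obtain ⟨l, hl, b, hb, rfl⟩ := mem_sup_of_normal_left.1 hyW
  have hgN : g ∈ N := hTN hgT
  have hπb : π b = π (l * b) := by rw [map_mul, (hπ1 l).2 hl, one_mul]
  have hcA : g * b * g⁻¹ * b⁻¹ ∈ A :=
    mul_mem (hG.regPart_normalised htwo hz hzc g hgN b hb) (inv_mem hb)
  have hcc : g * b * g⁻¹ * b⁻¹ ∈ center G := by
    refine hLpreg _ ((hπ1 _).1 ?_) hcA.2
    rw [map_mul, map_mul, map_mul, map_inv, map_inv, hπb]
    have h1 : Commute (π g) (π (l * b)) := ((mem_cent.1 hyg).symm).map π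
    rw [h1.eq, mul_inv_cancel_right, mul_inv_cancel]
  obtain ⟨e, n, -, hn, hb1⟩ := GStructB.PElements.exists_split s b
  have hb1c : b ^ n ∉ center G := by
    intro h
    obtain ⟨j, hj⟩ := hy
    refine hyc (hLpreg _ ((hπ1 _).1 ?_) (preg_of_isL hp hs.1 hs.2.1 ⟨j, hj⟩))
    have h1 : π (l * b) ^ n = 1 := by rw [← hπb, ← map_pow]; exact (hπ1 _).2 (hcL h)
    have h2 : π (l * b) ^ s ^ j = 1 := by rw [← map_pow, ← hj, pow_orderOf_eq_one, map_one]
    exact eq_one_of_pow_coprime (Nat.Coprime.pow_right j (hs.1.coprime_iff_not_dvd.2 hn).symm) h1 h2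
  have hc1 : g * b ^ n * g⁻¹ * (b ^ n)⁻¹ ∈ center G := by
    have h1 : g * b * g⁻¹ = (g * b * g⁻¹ * b⁻¹) * b := by group
    have h2 : Commute (g * b * g⁻¹ * b⁻¹) b := (mem_center_iff.1 hcc b).symm
    rw [← conj_pow, h1, h2.mul_pow, mul_inv_cancel_right]
    exact pow_mem hcc n
  have hgb := commute_of_mod_center hs.1 hr hsr.symm hgL ⟨e, hb1⟩ hc1
  refine hgz ?_
  rw [hG.cent_eq htwo hz hzc (preg_pow hb.2 n) hb1c (pow_mem hb.1 n)]
  exact mem_cent.2 hgb

end TwoReg

end Cfsg.Agent.TwoRegClass
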